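import Groth.Agent.TrZeroLib.Main
import Groth.Agent.WeightLib.Stratum

/-!
# Finiteness of sections on a finite scheme and extension by zero along the identity
-/

set_option autoImplicit false
set_option linter.all false
set_option backward.isDefEq.respectTransparency false
set_option backward.isDefEq.respectTransparency.types false
set_option maxHeartbeats 4000000
set_option synthInstance.maxHeartbeats 400000

universe u

open CategoryTheory CategoryTheory.Limits CategoryTheory.Abelian AlgebraicGeometry Opposite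
open Groth.Agent Groth.Agent.EtShLib

attribute [local instance] EtSliceLib.pullExact

noncomputable section

namespace TrZeroLib

variable {X : Scheme.{u}}

theorem nsmul_id_carrier {Λ : Type} [CommRing Λ] [Finite Λ] (L : EtLam.Sheaf Λ X) :
    Nat.card Λ • 𝟙 L.carrier = 0 := by
  have h : (Nat.card Λ : Λ) = 0 := by
    haveI := Fintype.ofFinite Λ
    rw [Nat.card_eq_fintype_card]
    have := card_nsmul_eq_zero (x := (1 : Λ))
    rwa [nsmul_one] at this
  have h2 := congrArg L.act h
  rwa [map_natCast, map_zero, ← nsmul_one] at h2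

/-- Geometric stalks of constructible sheaves of modules over a finite ring are finite. -/
theorem finite_stk [CompactSpace X] [QuasiSeparatedSpace X] {Λ : Type} [CommRing Λ] [Finite Λ]
    (L : EtLam.Sheaf Λ X) (hL : EtLam.IsConstructible L) {Ω : Type u} [Field Ω] [IsSepClosed Ω]
    (ξ : Spec (CommRingCat.of Ω) ⟶ X) : Finite ((stk (A := AddCommGrpCat.{u + 1}) ξ).obj L.carrier) := by
  classical
  obtain ⟨N, U, s, hU, hgen⟩ := EtLamFinLib.exists_generates L hL
  haveI hfib : ∀ i, Finite (Fib ξ (U i)) := fun i => by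
    haveI := hU i
    haveI : Etale (U i).hom := (U i).prop
    haveI := WeightLib.locallyQuasiFinite_of_etale (U i).hom
    haveI : IsAffine (U i).left := hU i
    haveI : CompactSpace ((𝟭 Scheme.{u}).obj (U i).left) := (inferInstance : CompactSpace (U i).left)
    have hfin := WeightLib.finite_fibre_of_compactSpace (U i).hom (ξ.base default)
    haveI : Finite ((U i).hom.base ⁻¹' {ξ.base default} : Set (U i).left) := hfin.to_subtype
    let g : Fib ξ (U i) → ((U i).hom.base ⁻¹' {ξ.base default} : Set (U i).left) := fun l => ⟨l.pt, by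
      show (U i).hom.base (l.hom.base default) = ξ.base default
      exact congrArg (fun t : Spec (CommRingCat.of Ω) ⟶ X => t.base default) l.w⟩
    haveI : ∀ p, Finite {l : Fib ξ (U i) // g l = p} := fun p =>
      haveI := Groth.Agent.EtPtClassLib.finite_fib_pt ξ (U := U i) p.1
      Finite.of_injective (fun l : {l // g l = p} => (⟨l.1, congrArg Subtype.val l.2⟩ : {l : Fib ξ (U i) // l.pt = p.1}))
        fun l l' h => Subtype.ext (congrArg (fun t : {l : Fib ξ (U i) // l.pt = p.1} => t.1) h)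
    exact Finite.of_equiv _ (Equiv.sigmaFiberEquiv g)
  haveI : Finite {z : ToType ((stk (A := AddCommGrpCat.{u + 1}) ξ).obj L.carrier) |
      ∃ (i : Fin N) (v : Fib ξ (U i)) (r : Λ), germ ξ L.carrier (U i) v ((L.act r).hom.app _ (s i)) = z} := by
    refine Finite.of_surjective (fun t : Σ i : Fin N, Fib ξ (U i) × Λ =>
      (⟨_, t.1, t.2.1, t.2.2, rfl⟩ : {z | ∃ (i : Fin N) (v : Fib ξ (U i)) (r : Λ),
        germ ξ L.carrier (U i) v ((L.act r).hom.app _ (s i)) = z})) ?_
    rintro ⟨z, i, v, r, rfl⟩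
    exact ⟨⟨i, v, r⟩, rfl⟩
  have hk : ∀ z : ToType ((stk (A := AddCommGrpCat.{u + 1}) ξ).obj L.carrier), Nat.card Λ • z = 0 := fun z => by
    have h := congrArg (stk (A := AddCommGrpCat.{u + 1}) ξ).map (nsmul_id_carrier L)
    rw [Functor.map_nsmul, Functor.map_zero, CategoryTheory.Functor.map_id] at h
    exact congrArg (fun t : (stk (A := AddCommGrpCat.{u + 1}) ξ).obj L.carrier ⟶ _ => t z) h
  haveI : AddGroup.FG ((stk (A := AddCommGrpCat.{u + 1}) ξ).obj L.carrier) :=
    ⟨⟨(Set.toFinite {z : ToType ((stk (A := AddCommGrpCat.{u + 1}) ξ).obj L.carrier) |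
      ∃ (i : Fin N) (v : Fib ξ (U i)) (r : Λ), germ ξ L.carrier (U i) v ((L.act r).hom.app _ (s i)) = z}).toFinset,
      by rw [Set.Finite.coe_toFinset]; exact hgen Ω ξ⟩⟩
  exact AddCommGroup.finite_of_fg_torsion _ fun z =>
    isOfFinAddOrder_iff_nsmul_eq_zero.2 ⟨Nat.card Λ, Nat.card_pos, hk z⟩

variable {k : Type u} [Field k] [Fintype k] {K : Type u} [Field K] [Algebra k K] [IsAlgClosed K]
  [Fact FinFr.PullExact.{u}] {X₀ : Scheme.{u}} (a : X₀ ⟶ Spec (CommRingCat.of k)) [IsFinite a]

theorem finite_H_point (y : Spec (CommRingCat.of K) ⟶ X₀) (G : EtCoh.Ab X₀)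
    [Finite ((stk (A := AddCommGrpCat.{u + 1}) (𝟙 _ ≫ y)).obj G)] :
    Finite (EtCoh.H (Spec (CommRingCat.of K)) ((EtCoh.pull y).obj G) 0) := by
  obtain ⟨hT⟩ : Nonempty (IsTerminal (EtCoh.top (Spec (CommRingCat.of K)))) :=
    ⟨MorphismProperty.Over.mkIdTerminal EtCoh.etaleMP (Spec (CommRingCat.of K))⟩
  let e₁ := Sheaf.H.equiv₀ ((EtCoh.pull y).obj G) hT
  haveI : Finite ((stk (A := AddCommGrpCat.{u + 1}) (𝟙 (Spec (CommRingCat.of K)))).obj ((EtCoh.pull y).obj G)) :=
    Finite.of_equiv _ ((stalkPull y (𝟙 _) AddCommGrpCat.{u + 1}).app G).addCommGroupIsoToAddEquiv.toEquiv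
  exact Finite.of_injective _ (((EtPBCProperLib.bijective_germ_point K _ (𝟙 _)).1).comp e₁.injective)

theorem finite_H_ext {Λ : Type} [Field Λ] (L : EtLam.Sheaf Λ X₀)
    (h : ∀ y : Spec (CommRingCat.of K) ⟶ X₀, Finite ((stk (A := AddCommGrpCat.{u + 1}) y).obj L.carrier)) :
    Finite (EtCoh.H (FinFr.ext K a) (EtLam.pullback (FinFr.extπ K a) L).carrier 0) := by
  haveI := finite_pts (FinFr.extStr K a)
  haveI : ∀ p : Pts (FinFr.extStr K a),
      Finite (EtCoh.H (Spec (CommRingCat.of K)) (EtLam.pullback (p.1 ≫ FinFr.extπ K a) L).carrier 0) := fun p =>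
    haveI : Finite ((stk (A := AddCommGrpCat.{u + 1}) (𝟙 _ ≫ p.1 ≫ FinFr.extπ K a)).obj L.carrier) := h _
    finite_H_point (p.1 ≫ FinFr.extπ K a) L.carrier
  exact Finite.of_injective _ (bijective_r a L).1

/-- Extension by zero along the identity. -/
def extZeroId (X : Scheme.{u}) [EtShriek.JCont (𝟙 X)] : EtShriek.extZero (𝟙 X) ≅ 𝟭 (EtCoh.Ab X) :=
  Adjunction.leftAdjointUniq (EtShriek.extZeroAdj (𝟙 X)) (Adjunction.id.ofNatIsoRight
    (NatIso.ofComponents (fun G => (sheafToPresheaf _ _).preimageIso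
      (NatIso.ofComponents (fun V => G.obj.mapIso
        (MorphismProperty.Over.isoMk (Iso.refl V.unop.left) (by simp) :
          (EtShriek.compEtale (𝟙 X)).obj V.unop ≅ V.unop).op)
        (fun g => by
          show G.obj.map g ≫ G.obj.map _ = G.obj.map _ ≫ G.obj.map ((EtShriek.compEtale (𝟙 X)).map g.unop).op
          rw [← Functor.map_comp, ← Functor.map_comp]
          congr 1)))
      (fun φ => by
        refine (sheafToPresheaf _ _).map_injective ?_
        rw [Functor.map_comp, Functor.map_comp, Functor.preimageIso_hom, Functor.preimageIso_hom,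
          Functor.map_preimage, Functor.map_preimage]
        refine NatTrans.ext (funext fun V => ?_)
        exact (φ.hom.naturality _).symm)))

theorem galH_natural (σ : K ≃ₐ[k] K) {G G' : EtCoh.Ab X₀} (φ : G ⟶ G') (n : ℕ)
    (s : EtCoh.H (FinFr.ext K a) ((EtCoh.pull (FinFr.extπ K a)).obj G) n) :
    Sheaf.H.map ((EtCoh.pull (FinFr.extπ K a)).map φ) n (FinFr.galH a σ G n s) =
      FinFr.galH a σ G' n (Sheaf.H.map ((EtCoh.pull (FinFr.extπ K a)).map φ) n s) :=
  (EtCore.HpullVia_natural _ _ _ _ φ n s).symm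

theorem bijective_Hmap {U : Scheme.{u}} {A B : EtCoh.Ab U} (e : A ≅ B) (n : ℕ) :
    Function.Bijective (Sheaf.H.map e.hom n) :=
  ((EtCoh.HF U n).mapIso e).addCommGroupIsoToAddEquiv.bijective

variable [Algebra.IsAlgebraic k K] {Λ : Type} [Field Λ]

/-- Isomorphic sheaves of modules have the same local traces. -/
theorem locTrace_congr (L L' : EtLam.Sheaf Λ X₀) (e : L.carrier ≅ L'.carrier)
    (he : ∀ c, L.act c ≫ e.hom = e.hom ≫ L'.act c) (x : Spec (CommRingCat.of k) ⟶ X₀) :
    FinFr.locTrace (K := K) x L = FinFr.locTrace (K := K) x L' := by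
  let e' := (EtCoh.pull (FinFr.extπ K (𝟙 _))).mapIso ((EtCoh.pull x).mapIso e)
  refine (LangShLib.trace_eq_of_bijective (LangShLib.mkLin
    (EtLam.pullback (FinFr.extπ K (𝟙 _)) (EtLam.pullback x L))
    (EtLam.pullback (FinFr.extπ K (𝟙 _)) (EtLam.pullback x L')) 0 (Sheaf.H.map e'.hom 0) fun c s => ?_)
    (bijective_Hmap e' 0) (FinFr.locFrob (K := K) x L) (FinFr.locFrob (K := K) x L') fun s => ?_).symm
  · refine (Sheaf.H.map_comp_apply _ _ _).symm.trans (Eq.trans ?_ (Sheaf.H.map_comp_apply _ _ _))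
    refine congrArg (fun φ => Sheaf.H.map φ 0 s) ?_
    show (EtCoh.pull _).map ((EtCoh.pull x).map (L.act c)) ≫ _ = _ ≫ (EtCoh.pull _).map ((EtCoh.pull x).map (L'.act c))
    simp only [e', Functor.mapIso_hom, ← Functor.map_comp, he]
  · exact galH_natural (𝟙 _) (FinFr.arith k K).symm _ 0 s

end TrZeroLib

end
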