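import Mathlib.LinearAlgebra.Trace
import Mathlib.LinearAlgebra.FiniteDimensional.Basic

/-!
# Trace of a map permuting the factors of a finite product
-/

set_option autoImplicit false
set_option linter.all false

open LinearMap

namespace TrZeroLib

theorem trace_eq_sum_fixed {R H ι : Type*} [Field R] [AddCommGroup H] [Module R H] [FiniteDimensional R H]
    [Fintype ι] [DecidableEq ι] {M : ι → Type*} [∀ i, AddCommGroup (M i)] [∀ i, Module R (M i)]
    (f : ∀ i, H →ₗ[R] M i) (hb : Function.Bijective fun (s : H) i => f i s) (F : H →ₗ[R] H)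
    (φ : ι → ι) (hφ : ∀ i s, f (φ i) s = 0 → f i (F s) = 0) (c : ι → R)
    (hc : ∀ i, φ i = i → ∀ σ : M i →ₗ[R] H, (∀ m, f i (σ m) = m) →
      ∀ A : M i →ₗ[R] M i, (∀ m, A m = f i (F (σ m))) → LinearMap.trace R (M i) A = c i) :
    LinearMap.trace R H F = ∑ i ∈ Finset.univ.filter (fun i => φ i = i), c i := by
  haveI : ∀ i, FiniteDimensional R (M i) := fun i =>
    Module.Finite.of_surjective (f i) fun m => by
      obtain ⟨s, hs⟩ := hb.2 (Pi.single i m)
      exact ⟨s, by simpa using congrFun hs i⟩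
  let e : H ≃ₗ[R] ∀ i, M i := LinearEquiv.ofBijective (LinearMap.pi f) hb
  let σ : ∀ i, M i →ₗ[R] H := fun i => e.symm.toLinearMap.comp (LinearMap.single R M i)
  have hσ : ∀ i j m, f j (σ i m) = Pi.single (M := M) i m j := fun i j m =>
    congrFun (e.apply_symm_apply (Pi.single i m)) j
  have hone : F = ∑ i, F.comp ((σ i).comp (f i)) := by
    refine LinearMap.ext fun s => ?_
    rw [LinearMap.sum_apply]
    simp only [LinearMap.comp_apply]
    rw [← map_sum]
    refine congrArg F (e.injective (funext fun j => ?_))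
    show f j s = f j (∑ i, σ i (f i s))
    rw [map_sum, Finset.sum_eq_single j]
    · rw [hσ, Pi.single_eq_same]
    · intro i _ hij
      rw [hσ, Pi.single_eq_of_ne (Ne.symm hij)]
    · exact fun h => absurd (Finset.mem_univ j) h
  have key : ∀ i, LinearMap.trace R H (F.comp ((σ i).comp (f i))) =
      LinearMap.trace R (M i) ((f i).comp (F.comp (σ i))) := fun i => by
    rw [← LinearMap.comp_assoc]
    exact LinearMap.trace_comp_comm' (f i) (F.comp (σ i))
  conv_lhs => rw [hone, map_sum]
  rw [Finset.sum_filter]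
  refine Finset.sum_congr rfl fun i _ => ?_
  rw [key]
  split
  · next h => exact hc i h (σ i) (fun m => by rw [hσ, Pi.single_eq_same]) _ (fun m => rfl)
  · next h =>
    have h0 : (f i).comp (F.comp (σ i)) = 0 := LinearMap.ext fun m =>
      hφ i _ (by rw [hσ, Pi.single_eq_of_ne h])
    rw [h0, map_zero]

theorem trace_local {R H M N : Type*} [Field R] [AddCommGroup H] [Module R H] [AddCommGroup M] [Module R M]
    [AddCommGroup N] [Module R N] (f : H →ₗ[R] M) (g : H →ₗ[R] N) (hker : ∀ s, f s = 0 ↔ g s = 0)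
    (hg : Function.Surjective g) (σ : M →ₗ[R] H) (hσ : ∀ m, f (σ m) = m) (F : H →ₗ[R] H)
    (A : M →ₗ[R] M) (hA : ∀ m, A m = f (F (σ m))) (B : N →ₗ[R] N) (hB : ∀ s, g (F s) = B (g s)) :
    LinearMap.trace R M A = LinearMap.trace R N B := by
  have hd : ∀ s, g (σ (f s)) = g s := fun s => sub_eq_zero.1 (by
    rw [← map_sub, ← hker, map_sub, hσ, sub_self])
  have hb : Function.Bijective (g.comp σ) := by
    refine ⟨(injective_iff_map_eq_zero _).2 fun m hm => ?_, fun n => ?_⟩
    · rw [← hσ m]; exact (hker _).2 hm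
    · obtain ⟨s, rfl⟩ := hg n
      exact ⟨f s, hd s⟩
  let e := LinearEquiv.ofBijective (g.comp σ) hb
  rw [← LinearMap.trace_conj' A e]
  refine congrArg _ (LinearMap.ext fun n => ?_)
  obtain ⟨m, rfl⟩ := e.surjective n
  rw [LinearEquiv.conj_apply_apply, e.symm_apply_apply]
  show g (σ (A m)) = B (g (σ m))
  rw [hA, hd, hB]

end TrZeroLib
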