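import Groth.Agent.TrZeroLib.Sections
import Groth.Agent.TrZeroLib.Trace
import Groth.Agent.EtPBCCdLib.LqfSquare
import Groth.Agent.EtPBCProperLib.Point
import Groth.Agent.EtLamFinLib.Gen
import Groth.Agent.EtPtClassLib.Main

/-!
# The trace formula in dimension zero
-/

set_option autoImplicit false
set_option linter.all false
set_option backward.isDefEq.respectTransparency false
set_option backward.isDefEq.respectTransparency.types false
set_option maxHeartbeats 4000000
set_option synthInstance.maxHeartbeats 400000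

universe u

open CategoryTheory CategoryTheory.Limits CategoryTheory.Abelian AlgebraicGeometry Opposite
open Groth.Agent Groth.Agent.EtShLib

attribute [local instance] EtSliceLib.pullExact

noncomputable section

namespace TrZeroLib

open LangShLib

section Points

variable {K : Type u} [Field K] [IsAlgClosed K] {X : Scheme.{u}} (f : X ⟶ Spec (CommRingCat.of K)) [IsFinite f]

include f in
theorem isClosed_pt (x : X) : IsClosed ({x} : Set X) := by
  haveI : DiscreteTopology X := by
    rw [← isDiscrete_univ_iff]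
    have h : f.base ⁻¹' {default} = Set.univ :=
      Set.eq_univ_of_forall fun y => Subsingleton.elim (α := Spec (CommRingCat.of K)) _ _
    rw [← h]
    exact f.isDiscrete_preimage_singleton default
  exact isClosed_discrete _

/-- The points with values in the base field. -/
abbrev Pts : Type u := {p : Spec (CommRingCat.of K) ⟶ X // p ≫ f = 𝟙 _}

theorem finite_pts : Finite (Pts f) := by
  haveI : Finite X := by
    rw [← Set.finite_univ_iff]
    refine (f.finite_preimage_singleton default).subset fun y _ => ?_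
    exact Subsingleton.elim (α := Spec (CommRingCat.of K)) _ _
  refine Finite.of_injective (fun p : Pts f => (pointEquivClosedPoint f p).1) ?_
  exact fun p p' h => (pointEquivClosedPoint f).injective (Subtype.ext h)

theorem exists_pt (x : X) : ∃ p : Pts f, x ∈ Set.range p.1.base :=
  ⟨⟨pointOfClosedPoint f x (isClosed_pt f x), pointOfClosedPoint_comp f x _⟩, default,
    pointOfClosedPoint_apply f x _ _⟩

theorem disjoint_pt (p p' : Pts f) (h : p ≠ p') : Disjoint (Set.range p.1.base) (Set.range p'.1.base) := by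
  refine Set.disjoint_left.2 fun x hx hx' => h ?_
  obtain ⟨a, rfl⟩ := hx
  obtain ⟨b, hb⟩ := hx'
  refine Subtype.ext (ext_of_apply_closedPoint_eq f p.2 p'.2 ?_)
  rw [Subsingleton.elim (α := Spec (CommRingCat.of K)) (IsLocalRing.closedPoint K) a]
  refine hb.symm.trans ?_
  rw [Subsingleton.elim (α := Spec (CommRingCat.of K)) b a]

end Points

variable {k : Type u} [Field k] [Fintype k] {K : Type u} [Field K] [Algebra k K]

theorem mem_range_of_pow_card {z : K} (h : z ^ Fintype.card k = z) : z ∈ (algebraMap k K).range := by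
  classical
  have h1 := FiniteField.roots_X_pow_card_sub_X k
  have hne : (Polynomial.X ^ Fintype.card k - Polynomial.X : Polynomial K) ≠ 0 :=
    FiniteField.X_pow_card_sub_X_ne_zero K Fintype.one_lt_card
  have h2 : (Polynomial.map (algebraMap k K) (Polynomial.X ^ Fintype.card k - Polynomial.X)).roots =
      Finset.univ.val.map (algebraMap k K) := by
    rw [← h1]
    refine (Polynomial.roots_map_of_injective_of_card_eq_natDegree (algebraMap k K).injective ?_).symm
    rw [h1, FiniteField.X_pow_card_sub_X_natDegree_eq k Fintype.one_lt_card]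
    rfl
  have h3 : z ∈ (Polynomial.map (algebraMap k K) (Polynomial.X ^ Fintype.card k - Polynomial.X)).roots := by
    rw [Polynomial.map_sub, Polynomial.map_pow, Polynomial.map_X, Polynomial.mem_roots hne]
    simp [h]
  rw [h2, Multiset.mem_map] at h3
  obtain ⟨r, -, rfl⟩ := h3
  exact ⟨r, rfl⟩

theorem exists_ratPt [Algebra.IsAlgebraic k K] {X₀ : Scheme.{u}} (a : X₀ ⟶ Spec (CommRingCat.of k))
    (y : Spec (CommRingCat.of K) ⟶ X₀) (hy : y ≫ a = FinFr.specι k K)
    (hfix : Spec.map (CommRingCat.ofHom (((FinFr.arith k K).symm : K ≃ₐ[k] K) : K →+* K)) ≫ y = y) :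
    ∃ x : Spec (CommRingCat.of k) ⟶ X₀, x ≫ a = 𝟙 _ ∧ FinFr.specι k K ≫ x = y := by
  haveI : Epi (FinFr.specι k K) := by
    haveI : IsIntegral (Spec (CommRingCat.of k)) := inferInstance
    haveI : Flat (FinFr.specι k K) := inferInstance
    haveI : Surjective (FinFr.specι k K) := ⟨fun p => ⟨default, Subsingleton.elim _ _⟩⟩
    exact Flat.epi_of_flat_of_surjective _
  obtain ⟨⟨p, φ⟩, hp⟩ := (Scheme.SpecToEquivOfField K X₀).symm.surjective y
  have hp' : Spec.map φ ≫ X₀.fromSpecResidueField p = y := hp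
  let σ : K →+* K := ((FinFr.arith k K).symm : K ≃ₐ[k] K)
  have hφ : φ ≫ CommRingCat.ofHom σ = φ := by
    refine Spec.map_injective ((cancel_mono (X₀.fromSpecResidueField p)).1 ?_)
    rw [Spec.map_comp, Category.assoc, hp']
    exact hfix
  have hrange : ∀ z, φ.hom z ∈ (algebraMap k K).range := fun z => by
    have h1 : σ (φ.hom z) = φ.hom z := congrArg (fun t => t.hom z) hφ
    have h2 : (φ.hom z) ^ Fintype.card k = φ.hom z := by
      have h3 := congrArg (FinFr.arith k K) h1
      exact ((FinFr.arith k K).apply_symm_apply (φ.hom z)).symm.trans h3 |>.symm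
    exact mem_range_of_pow_card h2
  let eqv := RingEquiv.ofBijective ((algebraMap k K).rangeRestrict)
    (⟨fun r s h => (algebraMap k K).injective (congrArg Subtype.val h),
      (algebraMap k K).rangeRestrict_surjective⟩ : Function.Bijective (algebraMap k K).rangeRestrict)
  let ψ : X₀.residueField p →+* k := eqv.symm.toRingHom.comp (φ.hom.codRestrict _ hrange)
  have hψ : CommRingCat.ofHom ψ ≫ CommRingCat.ofHom (algebraMap k K) = φ := by
    refine CommRingCat.hom_ext (RingHom.ext fun z => ?_)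
    exact congrArg Subtype.val (eqv.apply_symm_apply (φ.hom.codRestrict _ hrange z))
  let x := Spec.map (CommRingCat.ofHom ψ) ≫ X₀.fromSpecResidueField p
  have hx : FinFr.specι k K ≫ x = y := by
    rw [← hp', ← hψ, Spec.map_comp, Category.assoc]
  refine ⟨x, ?_, hx⟩
  rw [← cancel_epi (FinFr.specι k K), ← Category.assoc, hx, hy, Category.comp_id]

variable [IsAlgClosed K] [Fact FinFr.PullExact.{u}] {X₀ : Scheme.{u}} (a : X₀ ⟶ Spec (CommRingCat.of k))
  [IsFinite a] {Λ : Type} [Field Λ] (L : EtLam.Sheaf Λ X₀)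

/-- Restriction to a geometric point. -/
def r (p : Pts (FinFr.extStr K a)) :
    EtCoh.H (FinFr.ext K a) (EtLam.pullback (FinFr.extπ K a) L).carrier 0 →ₗ[Λ]
      EtCoh.H (Spec (CommRingCat.of K)) (EtLam.pullback (p.1 ≫ FinFr.extπ K a) L).carrier 0 :=
  mkLin (EtLam.pullback (FinFr.extπ K a) L) (EtLam.pullback (p.1 ≫ FinFr.extπ K a) L) 0
    (EtCore.HpullVia p.1 (FinFr.extπ K a) _ rfl L.carrier 0)
    (fun c s => EtCore.HpullVia_natural _ _ _ _ (L.act c) 0 s)

theorem HpullVia_eq_zero_iff {S T Y : Scheme.{u}} (f : S ⟶ T) (t : T ⟶ Y) (f₀ : S ⟶ Y) (w : f ≫ t = f₀)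
    (G : EtCoh.Ab Y) (n : ℕ) (s : EtCoh.H T ((EtCoh.pull t).obj G) n) :
    EtCore.HpullVia f t f₀ w G n s = 0 ↔ EtCore.Hpull f _ n s = 0 := by
  let e := ((EtCoh.HF S n).mapIso (((EtCore.pullComp f t).symm ≪≫ EtCore.pullCongr w).app G)).addCommGroupIsoToAddEquiv
  show e (EtCore.Hpull f _ n s) = 0 ↔ _
  exact map_eq_zero_iff e e.injective

theorem bijective_r : Function.Bijective fun s (p : Pts (FinFr.extStr K a)) => r a L p s := by
  classical
  haveI : Finite (Pts (FinFr.extStr K a)) := finite_pts _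
  obtain ⟨N, ⟨e⟩⟩ := Finite.exists_equiv_fin (Pts (FinFr.extStr K a))
  let q : Fin N → (Spec (CommRingCat.of K) ⟶ FinFr.ext K a) := fun i => (e.symm i).1
  haveI : ∀ i, IsClosedImmersion (q i) := fun i => isClosedImmersion_of_comp_eq_id _ _ (e.symm i).2
  have hb := bijective_pi_Hpull q (fun i j h => disjoint_pt _ _ _ fun h' => h (e.symm.injective h'))
    (fun x => by
      obtain ⟨p, hp⟩ := exists_pt (FinFr.extStr K a) x
      exact ⟨e p, by simpa [q] using hp⟩) ((EtCoh.pull (FinFr.extπ K a)).obj L.carrier) 0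
  let c : ∀ p : Pts (FinFr.extStr K a), _ := fun p => ((EtCoh.HF (Spec (CommRingCat.of K)) 0).mapIso
    (((EtCore.pullComp p.1 (FinFr.extπ K a)).symm ≪≫ EtCore.pullCongr rfl).app L.carrier)).addCommGroupIsoToAddEquiv
  refine ⟨fun s t h => hb.1 (funext fun i => (c (e.symm i)).injective (congrFun h (e.symm i))), fun m => ?_⟩
  obtain ⟨s, hs⟩ := hb.2 fun i => (c (e.symm i)).symm (m (e.symm i))
  refine ⟨s, funext fun p => ?_⟩
  obtain ⟨i, rfl⟩ := e.symm.surjective p
  exact ((congrArg (c (e.symm i)) (congrFun hs i)).trans ((c (e.symm i)).apply_symm_apply _))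

variable (σ : K ≃ₐ[k] K)

/-- The action on geometric points. -/
def act (p : Pts (FinFr.extStr K a)) : Pts (FinFr.extStr K a) :=
  ⟨Spec.map (CommRingCat.ofHom (σ.symm : K →+* K)) ≫ p.1 ≫ FinFr.galAct a σ, by
    rw [Category.assoc, Category.assoc, FinFr.galAct_snd, reassoc_of% p.2, ← Spec.map_comp, ← Spec.map_id]
    congr 1
    ext z
    exact σ.symm_apply_apply z⟩

theorem comp_galAct (p : Pts (FinFr.extStr K a)) :
    p.1 ≫ FinFr.galAct a σ = Spec.map (CommRingCat.ofHom (σ : K →+* K)) ≫ (act a σ p).1 := by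
  show _ = Spec.map _ ≫ Spec.map _ ≫ p.1 ≫ FinFr.galAct a σ
  rw [← Spec.map_comp_assoc]
  have h : CommRingCat.ofHom (σ.symm : K →+* K) ≫ CommRingCat.ofHom (σ : K →+* K) = 𝟙 _ := by
    ext z
    exact σ.apply_symm_apply z
  rw [h, Spec.map_id, Category.id_comp]

theorem r_galLin (p : Pts (FinFr.extStr K a)) (s) (h : r a L (act a σ p) s = 0) :
    r a L p (FinFr.galLin a σ L 0 s) = 0 := by
  let η := Spec.map (CommRingCat.ofHom (σ : K →+* K))
  have w₁ : (p.1 ≫ FinFr.galAct a σ) ≫ FinFr.extπ K a = p.1 ≫ FinFr.extπ K a := by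
    rw [Category.assoc, FinFr.galAct_fst]
  have w₂ : η ≫ (act a σ p).1 ≫ FinFr.extπ K a = p.1 ≫ FinFr.extπ K a := by
    rw [← Category.assoc, ← comp_galAct, w₁]
  show EtCore.HpullVia p.1 _ _ rfl L.carrier 0 (EtCore.HpullVia (FinFr.galAct a σ) _ _ _ L.carrier 0 s) = 0
  rw [HpullVia_trans L.carrier _ _ (p.1 ≫ FinFr.galAct a σ) rfl _ _ _ _ _ w₁,
    ← HpullVia_trans L.carrier η (act a σ p).1 (p.1 ≫ FinFr.galAct a σ) (comp_galAct a σ p).symm _
      ((act a σ p).1 ≫ FinFr.extπ K a) _ rfl w₂ w₁]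
  exact (congrArg _ h).trans (map_zero _)

variable {a}

/-- The geometric point over a rational point. -/
def ptOfRat (x : FinFr.RatPt a) : Pts (FinFr.extStr K a) :=
  ⟨pullback.lift (FinFr.specι k K ≫ x.1) (𝟙 _) (by rw [Category.assoc, x.2, Category.comp_id, Category.id_comp]),
    pullback.lift_snd _ _ _⟩

theorem ptOfRat_fst (x : FinFr.RatPt a) : (ptOfRat (K := K) x).1 ≫ FinFr.extπ K a = FinFr.specι k K ≫ x.1 :=
  pullback.lift_fst _ _ _

variable [Algebra.IsAlgebraic k K]

theorem act_ptOfRat (x : FinFr.RatPt a) :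
    act a (FinFr.arith k K).symm (ptOfRat x) = ptOfRat x := by
  refine Subtype.ext (pullback.hom_ext ?_ ?_)
  · show (Spec.map _ ≫ (ptOfRat x).1 ≫ FinFr.galAct a _) ≫ FinFr.extπ K a = _
    rw [Category.assoc, Category.assoc, FinFr.galAct_fst, ptOfRat_fst, ← Category.assoc,
      FinFr.specMap_algEquiv_comp_specι]
  · exact (act a _ (ptOfRat x)).2.trans (ptOfRat x).2.symm

theorem injective_ptOfRat : Function.Injective (ptOfRat (K := K) (a := a)) := fun x x' h => by
  haveI : Epi (FinFr.specι k K) := by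
    haveI : IsIntegral (Spec (CommRingCat.of k)) := inferInstance
    haveI : Flat (FinFr.specι k K) := inferInstance
    haveI : Surjective (FinFr.specι k K) := ⟨fun p => ⟨default, Subsingleton.elim _ _⟩⟩
    exact Flat.epi_of_flat_of_surjective _
  have h1 := congrArg (fun p : Pts (FinFr.extStr K a) => p.1 ≫ FinFr.extπ K a) h
  simp only [ptOfRat_fst] at h1
  exact Subtype.ext ((cancel_epi (FinFr.specι k K)).1 h1)

theorem exists_rat (p : Pts (FinFr.extStr K a)) (hp : act a (FinFr.arith k K).symm p = p) :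
    ∃ x : FinFr.RatPt a, ptOfRat x = p := by
  have h1 := congrArg (· ≫ FinFr.extπ K a) (comp_galAct a (FinFr.arith k K).symm p)
  simp only [hp, Category.assoc, FinFr.galAct_fst] at h1
  obtain ⟨x, hx, hxy⟩ := exists_ratPt a (p.1 ≫ FinFr.extπ K a) (by
    rw [Category.assoc, pullback.condition, ← Category.assoc, p.2, Category.id_comp]) h1.symm
  refine ⟨⟨x, hx⟩, Subtype.ext (pullback.hom_ext ?_ ?_)⟩
  · exact (ptOfRat_fst _).trans hxy
  · exact (ptOfRat _).2.trans p.2.symm

include K in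
theorem finite_ratPt : Finite (FinFr.RatPt a) :=
  haveI := finite_pts (FinFr.extStr K a)
  Finite.of_injective _ (injective_ptOfRat (K := K) (a := a))

theorem bijective_HpullVia_iso {S T Y : Scheme.{u}} (v : S ⟶ T) [IsIso v] (t : T ⟶ Y) (f₀ : S ⟶ Y) (w : v ≫ t = f₀)
    (G : EtCoh.Ab Y) (n : ℕ) : Function.Bijective (EtCore.HpullVia v t f₀ w G n) := by
  let e := ((EtCoh.HF S n).mapIso (((EtCore.pullComp v t).symm ≪≫ EtCore.pullCongr w).app G)).addCommGroupIsoToAddEquiv
  exact e.bijective.comp (CovDevLib.bijective_Hpull_iso v ((EtCoh.pull t).obj G) n)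

/-- Restrictions to two isomorphic pieces. -/
theorem ker_eq_and_surjective {S T Z Y : Scheme.{u}} (v : S ⟶ T) [IsIso v] (qm : T ⟶ Z) (t : Z ⟶ Y) (t' : T ⟶ Y)
    (w : qm ≫ t = t') (q : S ⟶ Z) (hq : v ≫ qm = q) (G : EtCoh.Ab Y) (n : ℕ) :
    (∀ s, EtCore.HpullVia q t (q ≫ t) rfl G n s = 0 ↔ EtCore.HpullVia qm t t' w G n s = 0) ∧
    (Function.Surjective (EtCore.HpullVia q t (q ≫ t) rfl G n) →
      Function.Surjective (EtCore.HpullVia qm t t' w G n)) := by
  have w' : v ≫ t' = q ≫ t := by rw [← w, ← Category.assoc, hq]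
  have hb := bijective_HpullVia_iso v t' (q ≫ t) w' G n
  have key : ∀ s, EtCore.HpullVia q t (q ≫ t) rfl G n s =
      EtCore.HpullVia v t' (q ≫ t) w' G n (EtCore.HpullVia qm t t' w G n s) := fun s =>
    (HpullVia_trans G v qm q hq t t' (q ≫ t) w w' rfl n s).symm
  refine ⟨fun s => ?_, fun h m => ?_⟩
  · rw [key]
    exact map_eq_zero_iff _ hb.1
  · obtain ⟨s, hs⟩ := h (EtCore.HpullVia v t' (q ≫ t) w' G n m)
    rw [key] at hs
    exact ⟨s, hb.1 hs⟩

theorem exists_iso_qMap (x : FinFr.RatPt a) (hx : x.1 ≫ a = FinFr.specι k k) :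
    ∃ v : Spec (CommRingCat.of K) ⟶ FinFr.ext K (𝟙 (Spec (CommRingCat.of k))),
      IsIso v ∧ v ≫ qMap (K := K) a x.1 hx = (ptOfRat x).1 := by
  haveI : IsIso (FinFr.extStr K (𝟙 (Spec (CommRingCat.of k)))) := inferInstance
  refine ⟨inv (FinFr.extStr K (𝟙 (Spec (CommRingCat.of k)))), inferInstance, ?_⟩
  apply pullback.hom_ext
  · rw [Category.assoc, qMap_fst, ptOfRat_fst]
    have h1 : inv (FinFr.extStr K (𝟙 (Spec (CommRingCat.of k)))) ≫ FinFr.extπ K (𝟙 _) = FinFr.specι k K := by
      rw [← Category.comp_id (FinFr.extπ K (𝟙 _)), pullback.condition, IsIso.inv_hom_id_assoc]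
    rw [← Category.assoc, h1]
  · rw [Category.assoc]
    exact ((congrArg (_ ≫ ·) (qMap_snd (K := K) a x.1 hx)).trans (IsIso.inv_hom_id _)).trans (ptOfRat x).2.symm

theorem res_props (x : FinFr.RatPt a) (hx : x.1 ≫ a = FinFr.specι k k) :
    (∀ s, r a L (ptOfRat (K := K) x) s = 0 ↔ res (K := K) a x.1 hx L 0 s = 0) ∧
    (Function.Surjective (r a L (ptOfRat (K := K) x)) → Function.Surjective (res (K := K) a x.1 hx L 0)) := by
  obtain ⟨v, hv, hvq⟩ := exists_iso_qMap (K := K) x hx
  haveI := hv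
  obtain ⟨h1, h2⟩ := ker_eq_and_surjective v (qMap a x.1 hx) (FinFr.extπ K a) _ (qMap_fst a x.1 hx) _ hvq L.carrier 0
  let e := ((EtCoh.HF (FinFr.ext K (𝟙 (Spec (CommRingCat.of k)))) 0).mapIso (ptIso (K := K) x.1 L).symm).addCommGroupIsoToAddEquiv
  refine ⟨fun s => (h1 s).trans (map_eq_zero_iff e e.injective).symm, fun h => ?_⟩
  exact e.surjective.comp (h2 h)

theorem trace_local_eq (x : FinFr.RatPt a)
    (ρ : EtCoh.H (Spec (CommRingCat.of K)) (EtLam.pullback ((ptOfRat x).1 ≫ FinFr.extπ K a) L).carrier 0 →ₗ[Λ]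
      EtCoh.H (FinFr.ext K a) (EtLam.pullback (FinFr.extπ K a) L).carrier 0)
    (hρ : ∀ m, r a L (ptOfRat x) (ρ m) = m) (A) (hA : ∀ m, A m = r a L (ptOfRat x) (FinFr.frob a L 0 (ρ m))) :
    LinearMap.trace Λ _ A = FinFr.locTrace (K := K) x.1 L := by
  have hx : x.1 ≫ a = FinFr.specι k k := by
    rw [x.2]
    exact (Spec.map_id _).symm
  obtain ⟨hker, hsur⟩ := res_props (K := K) L x hx
  refine trace_local (r a L (ptOfRat x))
    (mkLin (EtLam.pullback (FinFr.extπ K a) L) (EtLam.pullback (FinFr.extπ K (𝟙 _)) (EtLam.pullback x.1 L)) 0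
      (res a x.1 hx L 0) (res_smul a x.1 hx L 0))
    hker (hsur fun m => ⟨ρ m, hρ m⟩) ρ hρ (FinFr.frob a L 0) A hA (FinFr.locFrob (K := K) x.1 L) fun s => ?_
  exact res_galH a x.1 hx L (FinFr.arith k K).symm 0 s

/-- The trace formula on a finite scheme. -/
theorem trace_eq_finsum [FiniteDimensional Λ (EtCoh.H (FinFr.ext K a) (EtLam.pullback (FinFr.extπ K a) L).carrier 0)] :
    ∑ᶠ x : FinFr.RatPt a, FinFr.locTrace (K := K) x.1 L = LinearMap.trace Λ _ (FinFr.frob (K := K) a L 0) := by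
  classical
  haveI := finite_pts (FinFr.extStr K a)
  haveI := finite_ratPt (K := K) (a := a)
  letI : Fintype (Pts (FinFr.extStr K a)) := Fintype.ofFinite _
  letI : Fintype (FinFr.RatPt a) := Fintype.ofFinite _
  let σ := (FinFr.arith k K).symm
  let c : Pts (FinFr.extStr K a) → Λ := fun p =>
    if h : act a σ p = p then FinFr.locTrace (K := K) (exists_rat p h).choose.1 L else 0
  rw [trace_eq_sum_fixed (fun p => r a L p) (bijective_r a L) (FinFr.frob (K := K) a L 0) (act a σ)
    (fun p s h => r_galLin a L σ p s h) c ?_, finsum_eq_sum_of_fintype]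

  · refine Finset.sum_bij (fun x _ => ptOfRat x) (fun x _ => ?_) (fun x _ x' _ h => injective_ptOfRat h)
      (fun p hp => ?_) (fun x _ => ?_)
    · exact Finset.mem_filter.2 ⟨Finset.mem_univ _, act_ptOfRat x⟩
    · obtain ⟨x, hx⟩ := exists_rat p (Finset.mem_filter.1 hp).2
      exact ⟨x, Finset.mem_univ _, hx⟩
    · have h := act_ptOfRat (K := K) x
      simp only [c, σ, dif_pos h]
      rw [show (exists_rat (ptOfRat x) h).choose = x from injective_ptOfRat (exists_rat (ptOfRat x) h).choose_spec]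
  · intro p hp ρ hρ A hA
    obtain ⟨x, rfl⟩ := exists_rat p hp
    simp only [c, dif_pos hp]
    rw [show (exists_rat (ptOfRat x) hp).choose = x from injective_ptOfRat (exists_rat (ptOfRat x) hp).choose_spec]
    exact trace_local_eq L x ρ hρ A hA

end TrZeroLib

end
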