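import Groth.Agent.LangShLib.Main

/-!
# Global sections of a sheaf on a scheme finite over an algebraically closed field
-/

set_option autoImplicit false
set_option linter.all false
set_option backward.isDefEq.respectTransparency false
set_option backward.isDefEq.respectTransparency.types false
set_option maxHeartbeats 2000000
set_option synthInstance.maxHeartbeats 400000

universe u

open CategoryTheory CategoryTheory.Limits CategoryTheory.Abelian AlgebraicGeometry Opposite
open Groth.Agent Groth.Agent.EtShLib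

attribute [local instance] EtSliceLib.pullExact

noncomputable section

namespace TrZeroLib

/-- The unit at a point of the image of a closed immersion. -/
theorem isIso_stk_unit {Z X : Scheme.{u}} (i : Z ⟶ X) [IsClosedImmersion i] (F : EtCoh.Ab X) {Ω : Type u} [Field Ω]
    [IsSepClosed Ω] (ξ : Spec (CommRingCat.of Ω) ⟶ X) (hξ : ξ.base default ∈ Set.range i.base) :
    IsIso ((stk (A := AddCommGrpCat.{u + 1}) ξ).map ((EtCoh.pullPushAdj i).unit.app F)) := by
  obtain ⟨ζ, rfl⟩ := exists_factor i ξ hξ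
  haveI := isIso_compare (A := AddCommGrpCat.{u + 1}) i ζ (refines_of_closedImmersion i ζ) ((EtCoh.pull i).obj F)
  have e : (stk (ζ ≫ i)).map ((EtCoh.pullPushAdj i).unit.app F) ≫ compare i ζ ((EtCoh.pull i).obj F) =
      (stalkPull i ζ AddCommGrpCat.{u + 1}).hom.app F := by
    apply stk_hom_ext
    intro U u
    rw [← Category.assoc, germ_natural, Category.assoc]
    exact (congrArg (_ ≫ ·) (germ_compare i ζ _ U u)).trans (germ_stalkPull i ζ _ F U u).symm
  haveI : IsIso ((stk (ζ ≫ i)).map ((EtCoh.pullPushAdj i).unit.app F) ≫ compare i ζ ((EtCoh.pull i).obj F)) := by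
    rw [e]; infer_instance
  exact IsIso.of_isIso_comp_right _ (compare i ζ ((EtCoh.pull i).obj F))

variable {X : Scheme.{u}} {ι : Type} [Fintype ι] {T : ι → Scheme.{u}} (q : ∀ i, T i ⟶ X) [∀ i, IsClosedImmersion (q i)]

/-- A sheaf is the product of its restrictions to disjoint closed subschemes covering the space. -/
theorem isIso_lift_unit (hd : ∀ i j, i ≠ j → Disjoint (Set.range (q i).base) (Set.range (q j).base))
    (hc : ∀ x : X, ∃ i, x ∈ Set.range (q i).base) (F : EtCoh.Ab X) :
    IsIso (biproduct.lift fun i => (EtCoh.pullPushAdj (q i)).unit.app F :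
      F ⟶ ⨁ fun i => (EtCoh.push (q i)).obj ((EtCoh.pull (q i)).obj F)) := by
  classical
  refine isIso_of_stalks (A := AddCommGrpCat.{u + 1}) _ fun Ω _ _ ξ => ?_
  obtain ⟨i₀, hi₀⟩ := hc (ξ.base default)
  let A := fun i => (EtCoh.push (q i)).obj ((EtCoh.pull (q i)).obj F)
  let s := stk (A := AddCommGrpCat.{u + 1}) ξ
  haveI : IsIso (s.map (biproduct.π A i₀)) := ⟨s.map (biproduct.ι A i₀), by
    refine (s.map_comp _ _).symm.trans (Eq.trans ?_ (s.map_id (⨁ A)))
    rw [← biproduct.total (f := A), s.map_sum]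
    symm
    refine Finset.sum_eq_single i₀ (fun j _ hj => ?_) (fun h => absurd (Finset.mem_univ _) h)
    haveI := subsingleton_push_stalk (q j) ((EtCoh.pull (q j)).obj F) ξ fun h =>
      Set.disjoint_left.1 (hd j i₀ hj) h hi₀
    have h0 : s.map (biproduct.π A j) = 0 := by
      refine AddCommGrpCat.ext fun z => ?_
      exact @Subsingleton.elim _ this _ _
    rw [Functor.map_comp, h0, zero_comp], by
    rw [← Functor.map_comp, biproduct.ι_π_self, CategoryTheory.Functor.map_id]⟩
  let ε : F ⟶ ⨁ A := biproduct.lift fun i => (EtCoh.pullPushAdj (q i)).unit.app F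
  have hε : ε ≫ biproduct.π A i₀ = (EtCoh.pullPushAdj (q i₀)).unit.app F := biproduct.lift_π _ _
  haveI : IsIso (s.map ε ≫ s.map (biproduct.π A i₀)) := by
    rw [← Functor.map_comp, hε]
    exact isIso_stk_unit (q i₀) F ξ hi₀
  exact IsIso.of_isIso_comp_right (s.map ε) (s.map (biproduct.π A i₀))

theorem H_sum {U : Scheme.{u}} {F G : EtCoh.Ab U} {κ : Type*} (s : Finset κ) (f : κ → (F ⟶ G)) (n : ℕ)
    (x : EtCoh.H U F n) : Sheaf.H.map (∑ i ∈ s, f i) n x = ∑ i ∈ s, Sheaf.H.map (f i) n x := by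
  classical
  induction s using Finset.induction_on with
  | empty => rw [Finset.sum_empty, Finset.sum_empty, Sheaf.H.map_apply, Ext.mk₀_zero, Ext.comp_zero]
  | @insert a s ha ih =>
    rw [Finset.sum_insert ha, Finset.sum_insert ha, ← ih, Sheaf.H.map_apply, Ext.mk₀_add, Ext.comp_add]
    rfl

theorem Hpull_eq_HofPush {U Z : Scheme.{u}} (π : Z ⟶ U) (G : EtCoh.Ab U) (n : ℕ) (x : EtCoh.H U G n) :
    EtCore.Hpull π G n x = EtLim.HofPush π _ n (Sheaf.H.map ((EtCoh.pullPushAdj π).unit.app G) n x) := by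
  show EtCore.Hpull π G n x = (EtCore.Hpull π _ n (x.comp (Ext.mk₀ _) (add_zero n))).comp
    (Ext.mk₀ ((EtCoh.pullPushAdj π).counit.app _)) (add_zero n)
  rw [EtAcycLib.Hpull_postcomp, Ext.comp_assoc_of_second_deg_zero, Ext.mk₀_comp_mk₀]
  erw [(EtCoh.pullPushAdj π).left_triangle_components G]
  rw [Ext.comp_mk₀_id]

/-- Classes on the whole scheme are families of classes on the pieces. -/
theorem bijective_pi_Hpull (hd : ∀ i j, i ≠ j → Disjoint (Set.range (q i).base) (Set.range (q j).base))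
    (hc : ∀ x : X, ∃ i, x ∈ Set.range (q i).base) (F : EtCoh.Ab X) (n : ℕ) :
    Function.Bijective fun (s : EtCoh.H X F n) (i : ι) => EtCore.Hpull (q i) F n s := by
  classical
  let A := fun i => (EtCoh.push (q i)).obj ((EtCoh.pull (q i)).obj F)
  let ε : F ⟶ ⨁ A := biproduct.lift fun i => (EtCoh.pullPushAdj (q i)).unit.app F
  haveI : IsIso ε := isIso_lift_unit q hd hc F
  have hR : ∀ i (p : ℕ), 0 < p → IsZero ((EtCoh.Rpush (q i) p).obj ((EtCoh.pull (q i)).obj F)) := fun i p hp =>
    EtShLib.isZero_rightDerived_push_finite (q i) _ p hp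
  have hb := fun i => Groth.Agent.S14451.result (q i) ((EtCoh.pull (q i)).obj F) (hR i) n
  have hεπ : ∀ (s : EtCoh.H X F n) i, Sheaf.H.map (biproduct.π A i) n (Sheaf.H.map ε n s) =
      Sheaf.H.map ((EtCoh.pullPushAdj (q i)).unit.app F) n s := fun s i =>
    (Sheaf.H.map_comp_apply ε (biproduct.π A i) s).symm.trans
      (congrArg (fun φ => Sheaf.H.map φ n s) (biproduct.lift_π _ _))
  refine ⟨fun s t h => ?_, fun m => ?_⟩
  · have h1 : ∀ i, Sheaf.H.map (biproduct.π A i) n (Sheaf.H.map ε n s) =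
        Sheaf.H.map (biproduct.π A i) n (Sheaf.H.map ε n t) := fun i => by
      rw [hεπ, hεπ]
      exact (hb i).1 ((Hpull_eq_HofPush _ _ _ _).symm.trans ((congrFun h i).trans (Hpull_eq_HofPush _ _ _ _)))
    have h2 : ∀ z : EtCoh.H X (⨁ A) n,
        z = ∑ i, Sheaf.H.map (biproduct.π A i ≫ biproduct.ι A i) n z := fun z => by
      rw [← H_sum, biproduct.total, Sheaf.H.map_id_apply]
    have h3 : Sheaf.H.map ε n s = Sheaf.H.map ε n t := by
      rw [h2 (Sheaf.H.map ε n s), h2 (Sheaf.H.map ε n t)]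
      refine Finset.sum_congr rfl fun i _ => ?_
      rw [Sheaf.H.map_comp_apply, Sheaf.H.map_comp_apply, h1]
    have h4 := congrArg (Sheaf.H.map (inv ε) n) h3
    rwa [← Sheaf.H.map_comp_apply, ← Sheaf.H.map_comp_apply, IsIso.hom_inv_id, Sheaf.H.map_id_apply,
      Sheaf.H.map_id_apply] at h4
  · choose w hw using fun i => (hb i).2 (m i)
    refine ⟨Sheaf.H.map (inv ε) n (∑ i, Sheaf.H.map (biproduct.ι A i) n (w i)), funext fun j => ?_⟩
    refine (Hpull_eq_HofPush _ _ _ _).trans ((congrArg _ ?_).trans (hw j))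
    rw [← hεπ, ← Sheaf.H.map_comp_apply (inv ε) ε, IsIso.inv_hom_id, Sheaf.H.map_id_apply, map_sum]
    refine (Finset.sum_eq_single j (fun i _ hij => ?_) (fun h => absurd (Finset.mem_univ _) h)).trans ?_
    · rw [← Sheaf.H.map_comp_apply, biproduct.ι_π_ne A hij, Sheaf.H.map_apply, Ext.mk₀_zero, Ext.comp_zero]
    · rw [← Sheaf.H.map_comp_apply, biproduct.ι_π_self, Sheaf.H.map_id_apply]

end TrZeroLib

end
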